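import Groth.Agent.Lib.BC8.UpperPlus
import Groth.Agent.Lib.BC8.RegShriek
import Groth.Agent.Lib.TensorMod.IdealMod
import Groth.Agent.Lib.CohMop.ExtResolution
import Groth.Agent.Lib.CohMop.TensorDerived
import Groth.Agent.Lib.EnriquesSeveri11.DualSeq
import Groth.Agent.Lib.ClImmProj14.Adj
import Groth.Agent.Lib.AsympCoh18.Family

/-! `R Hom(O_D, O_X) = N[-1]` for an effective Cartier divisor, no Noetherian hypothesis. -/

set_option autoImplicit false
set_option linter.style.haveILetI false
set_option linter.unusedSectionVars false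
set_option backward.isDefEq.respectTransparency false
set_option backward.isDefEq.respectTransparency.types false
set_option maxHeartbeats 1000000

universe u

open CategoryTheory CategoryTheory.Limits AlgebraicGeometry

attribute [local instance] HasDerivedCategory.standard

noncomputable section

namespace Groth.Agent.DualEff8

open Groth.Agent CohMop KFlat KFlat.Sch

variable {X : Scheme.{u}}

theorem isEquivalence_tenR {A : X.Modules} (hA : PicF.IsInvertible A) : (tenR A).IsEquivalence := by
  haveI := VB17.isEquivalence_tensorR hA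
  exact Functor.isEquivalence_of_iso (ES11.tenRIso A).symm

theorem isIso_counit {A : X.Modules} (hA : PicF.IsInvertible A) (M : X.Modules) :
    IsIso ((ihomAdj A).counit.app M) := by
  haveI := isEquivalence_tenR hA
  haveI : (ihom A).IsEquivalence := (ihomAdj A).isEquivalence_right_of_isEquivalence_left
  infer_instance

theorem exists_arrow {C : Type*} [Category C] {P Q Q' R : C} (f : P ⟶ Q) (g : P ⟶ Q') (a : Q ⟶ R) (b : Q' ⟶ R)
    [IsIso a] [IsIso b] (h : f ≫ a = g ≫ b) : Nonempty (Arrow.mk f ≅ Arrow.mk g) :=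
  ⟨Arrow.isoMk (Iso.refl _) (asIso a ≪≫ (asIso b).symm) (by
    simp only [Arrow.mk_left, Arrow.mk_right, Arrow.mk_hom, Iso.refl_hom, Category.id_comp, Iso.trans_hom,
      asIso_hom, Iso.symm_hom, asIso_inv]
    rw [reassoc_of% h, IsIso.hom_inv_id, Category.comp_id])⟩

theorem exists_arrow_natIso {C D : Type*} [Category C] [Category D] {F G : C ⥤ D} (ψ : F ≅ G) {A B : C}
    (f : A ⟶ B) : Nonempty (Arrow.mk (F.map f) ≅ Arrow.mk (G.map f)) :=
  ⟨Arrow.isoMk (ψ.app _) (ψ.app _) (ψ.hom.naturality _).symm⟩

variable (I : X.IdealSheafData)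

/-- The ideal sequence. -/
def seq : ShortComplex X.Modules := ShortComplex.mk (ClSub.idealModι I) (ClSub.toSubscheme I) (kernel.condition _)

theorem seq_shortExact : (seq I).ShortExact := M2.shortExact_idealMod (I := I)

/-- Restriction of functionals to the ideal. -/
def φ : (ihom (Coh.structureModule X)).obj (Coh.structureModule X) ⟶
    (ihom (ClSub.idealMod I)).obj (Coh.structureModule X) :=
  (ihomNat (seq I).f).app (Coh.structureModule X)

theorem tenR_map_φ :
    (tenR (ClSub.idealMod I)).map (φ I) ≫ (ihomAdj (ClSub.idealMod I)).counit.app (Coh.structureModule X) =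
      ((TX X).obj ((ihom (Coh.structureModule X)).obj (Coh.structureModule X))).map (ClSub.idealModι I) ≫
        (ihomAdj (Coh.structureModule X)).counit.app (Coh.structureModule X) := by
  rw [φ, ihomNat_app]
  exact ((ihomAdj (ClSub.idealMod I)).homEquiv_counit _ _ _).symm.trans (Equiv.symm_apply_apply _ _)

variable (hA : PicF.IsInvertible (ClSub.idealMod I))

theorem exists_unit : Nonempty ((ihom (Coh.structureModule X)).obj (Coh.structureModule X) ≅ Coh.structureModule X) := by
  haveI := isIso_counit (PicLoc.isInvertible_structureModule X) (Coh.structureModule X)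
  exact ⟨(RHom.unitorNatIso.app _).symm ≪≫
    asIso ((ihomAdj (Coh.structureModule X)).counit.app (Coh.structureModule X))⟩

include hA

/-- The restriction map, after tensoring with the ideal, is the inclusion of the ideal. -/
theorem exists_arrow_iso : Nonempty (Arrow.mk ((tenR (ClSub.idealMod I)).map (φ I)) ≅ Arrow.mk (ClSub.idealModι I)) := by
  obtain ⟨w⟩ := exists_unit (X := X)
  haveI := isIso_counit hA (Coh.structureModule X)
  haveI := isIso_counit (PicLoc.isInvertible_structureModule X) (Coh.structureModule X)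
  obtain ⟨a₁⟩ := exists_arrow _ _ _ _ (tenR_map_φ I)
  obtain ⟨a₂⟩ := exists_arrow_natIso
    (Site.flipObjIso X.sheaf ((ihom (Coh.structureModule X)).obj (Coh.structureModule X)) ≪≫
      (TX X).flip.mapIso w ≪≫ RHom.unitorNatIso) (ClSub.idealModι I)
  exact ⟨a₁ ≪≫ a₂⟩

theorem mono_φ : Mono (φ I) := by
  haveI := isEquivalence_tenR hA
  obtain ⟨e⟩ := exists_arrow_iso I hA
  haveI : Mono (ClSub.idealModι I) := (seq_shortExact I).mono_f
  haveI : Mono (Arrow.mk (ClSub.idealModι I)).hom := ‹_›
  refine (tenR (ClSub.idealMod I)).mono_of_mono_map (show Mono ((tenR (ClSub.idealMod I)).map (φ I)) from ?_)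
  have h1 : Mono (e.hom.left ≫ (Arrow.mk (ClSub.idealModι I)).hom) := mono_comp _ _
  rw [e.hom.w] at h1
  haveI : Mono ((tenR (ClSub.idealMod I)).map (φ I) ≫ e.hom.right) := h1
  exact mono_of_mono _ e.hom.right

theorem nonempty_cokernel (L : X.Modules) (hL : ClSub.IsInverseOf L (ClSub.idealMod I)) :
    Nonempty (cokernel (φ I) ≅ (Scheme.Modules.pushforward I.subschemeι).obj
      ((Scheme.Modules.pullback I.subschemeι).obj L)) := by
  haveI := isEquivalence_tenR hA
  obtain ⟨e⟩ := exists_arrow_iso I hA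
  obtain ⟨eL⟩ := hL
  haveI := (seq_shortExact I).epi_g
  let c : (tenR (ClSub.idealMod I)).obj (cokernel (φ I)) ≅ ClSub.quotMod I :=
    PreservesCokernel.iso (tenR (ClSub.idealMod I)) (φ I) ≪≫
      cokernel.mapIso _ _ (Arrow.leftFunc.mapIso e) (Arrow.rightFunc.mapIso e) e.hom.w.symm ≪≫
      (colimit.isColimit _).coconePointUniqueUpToIso (seq_shortExact I).exact.gIsCokernel
  let d : CohB1.tensorMod (ClSub.idealMod I) L ≅ Coh.structureModule X := M2.tensorComm _ _ ≪≫ eL
  let t : tenR (ClSub.idealMod I) ⋙ tenR L ≅ 𝟭 _ :=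
    (tensorTenIso (ClSub.idealMod I) L).symm ≪≫ (TX X).flip.mapIso d ≪≫ RHom.unitorNatIso
  let i := I.subschemeι
  let q : tenR (ClSub.quotMod I) ≅ Scheme.Modules.pullback i ⋙ Scheme.Modules.pushforward i :=
    ClImmProj14.tenPushIso i (Coh.structureModule I.subscheme) ≪≫
      Functor.isoWhiskerLeft _ (Functor.isoWhiskerRight RHom.unitorNatIso _) ≪≫
      Functor.isoWhiskerLeft _ (Functor.leftUnitor _)
  exact ⟨(t.app _).symm ≪≫ (tenR L).mapIso c ≪≫ M2.tensorComm (ClSub.quotMod I) L ≪≫ q.app L⟩

/-- The local Ext sheaves of `O_D`. -/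
theorem ext_sheaves (L : X.Modules) (hL : ClSub.IsInverseOf L (ClSub.idealMod I)) [EnoughInjectives X.Modules] :
    IsZero (((ihom (ClSub.quotMod I)).rightDerived 0).obj (Coh.structureModule X)) ∧
    Nonempty (((ihom (ClSub.quotMod I)).rightDerived 1).obj (Coh.structureModule X) ≅
      (Scheme.Modules.pushforward I.subschemeι).obj ((Scheme.Modules.pullback I.subschemeι).obj L)) ∧
    ∀ k, IsZero (((ihom (ClSub.quotMod I)).rightDerived (k + 2)).obj (Coh.structureModule X)) := by
  let S := seq I
  have hS : S.ShortExact := seq_shortExact I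
  have h₁ : HomExact S.X₁ := homExact_of_isFinLocFree (M2.isFinLocFree_of_isInvertible hA)
  have h₂ : HomExact S.X₂ := homExact_of_isFinLocFree (M2.isFinLocFree_of_isInvertible (PicLoc.isInvertible_structureModule X))
  let O := Coh.structureModule X
  refine ⟨IsZero.of_iso ?_ ((ihom (ClSub.quotMod I)).rightDerivedZeroIsoSelf.app O), ?_, fun k => ?_⟩
  · haveI := hS.epi_g
    obtain ⟨hl⟩ := nonempty_isLimit_ihomSeq hS.exact O
    haveI : Mono ((ihomNat S.g).app O) := mono_of_isLimit_fork hl
    haveI : Mono ((ihomNat S.f).app O) := mono_φ I hA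
    exact IsZero.of_mono_eq_zero _ ((cancel_mono ((ihomNat S.f).app O)).1
      ((ihomNat_zero S O).trans zero_comp.symm))
  · obtain ⟨e⟩ := RDSeq.nonempty_cokernel_iso (ihomNat S.g) (ihomNat S.f) (ihomNat_zero S)
      (shortExact_ihom_of_injective hS) (fun G => h₂ 0 G)
    obtain ⟨c⟩ := nonempty_cokernel I hA L hL
    exact ⟨e.app O ≪≫ PreservesCokernel.iso ((evaluation X.Modules X.Modules).obj O) (ihomNat S.f) ≪≫ c⟩
  · haveI := RDSeq.isIso_delta_app (ihomNat S.g) (ihomNat S.f) (ihomNat_zero S)
        (shortExact_ihom_of_injective hS) (k + 1) O (h₂ k O) (h₂ (k + 1) O)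
    exact (h₁ k O).of_iso (asIso ((RDSeq.delta (ihomNat S.g) (ihomNat S.f) (ihomNat_zero S)
      (shortExact_ihom_of_injective hS) (k + 1)).app O)).symm

end Groth.Agent.DualEff8
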